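import Mathlib

set_option autoImplicit false
set_option linter.unusedSectionVars false

/-!
An abelian normal subgroup of a point stabiliser of a doubly transitive group which is not semiregular
on the other points: its conjugates meet trivially and cut out a linear space.
-/

namespace CfsgLib.ElSp

universe u v

open scoped Classical

noncomputable section

/-- A conjugation invariant family of abelian `p`-groups fixing their points, one of which fixes a second
point, in a doubly transitive group. -/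
structure Fam (G : Type u) (X : Type v) [Group G] [MulAction G X] where
  N : X → Subgroup G
  fixes : ∀ w, ∀ g ∈ N w, g • w = w
  conj : ∀ (g : G) (w : X), ∀ n ∈ N w, g * n * g⁻¹ ∈ N (g • w)
  comm : ∀ w, ∀ a ∈ N w, ∀ b ∈ N w, a * b = b * a
  p : ℕ
  hp : p.Prime
  pgroup : ∀ w, IsPGroup p (N w)
  two : ∀ {x y x' y' : X}, x ≠ y → x' ≠ y' → ∃ g : G, g • x = x' ∧ g • y = y'
  nsr : ∃ x y, x ≠ y ∧ ∃ n ∈ N x, n ≠ 1 ∧ n • y = y

namespace Fam

variable {G : Type u} {X : Type v} [Group G] [MulAction G X] (S : Fam G X)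

/-- The part of the group of `x` fixing `y`. -/
def M (x y : X) : Subgroup G := S.N x ⊓ MulAction.stabilizer G y

theorem mem_M {x y : X} {g : G} : g ∈ S.M x y ↔ g ∈ S.N x ∧ g • y = y := Iff.rfl

theorem N_map (g : G) (w : X) : (S.N w).map (MulAut.conj g).toMonoidHom = S.N (g • w) := by
  refine le_antisymm ?_ fun n hn => ⟨g⁻¹ * n * g, ?_, ?_⟩
  · rintro _ ⟨n, hn, rfl⟩
    exact S.conj g w n hn
  · simpa using S.conj g⁻¹ _ n hn
  · simp only [MulEquiv.coe_toMonoidHom, MulAut.conj_apply]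
    group

theorem M_map (g : G) (x y : X) : (S.M x y).map (MulAut.conj g).toMonoidHom = S.M (g • x) (g • y) := by
  rw [M, M, Subgroup.map_inf _ _ _ (MulEquiv.injective _), S.N_map, MulAction.stabilizer_smul_eq_stabilizer_map_conj]

theorem card_M {x y x' y' : X} (h : x ≠ y) (h' : x' ≠ y') : Nat.card (S.M x y) = Nat.card (S.M x' y') := by
  obtain ⟨g, rfl, rfl⟩ := S.two h h'
  rw [← S.M_map]
  exact Nat.card_congr (Subgroup.equivMapOfInjective _ _ (MulEquiv.injective _)).toEquiv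

theorem exists_M {x y : X} (h : x ≠ y) : ∃ m ∈ S.M x y, m ≠ 1 := by
  obtain ⟨a, b, hab, n, hn, hn1, hnb⟩ := S.nsr
  obtain ⟨g, rfl, rfl⟩ := S.two hab h
  exact ⟨g * n * g⁻¹, ⟨S.conj g a n hn, by simp [mul_smul, hnb]⟩, by simpa using hn1⟩

theorem M_eq_of_le [Finite G] {x y x' y' : X} (h : x ≠ y) (h' : x' ≠ y') (hle : S.M x y ≤ S.M x' y') :
    S.M x y = S.M x' y' :=
  Subgroup.eq_of_le_of_card_ge hle (S.card_M h h').ge

theorem card_D {x y x' y' : X} (h : x ≠ y) (h' : x' ≠ y') :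
    Nat.card (S.N x ⊓ S.N y : Subgroup G) = Nat.card (S.N x' ⊓ S.N y' : Subgroup G) := by
  obtain ⟨g, rfl, rfl⟩ := S.two h h'
  rw [← S.N_map, ← S.N_map, ← Subgroup.map_inf _ _ _ (MulEquiv.injective _)]
  exact Nat.card_congr (Subgroup.equivMapOfInjective _ _ (MulEquiv.injective _)).toEquiv

/-- The groups of two points meet trivially. -/
theorem meet_trivial [Finite G] [FaithfulSMul G X] {x y : X} (hxy : x ≠ y) {g : G} (hx : g ∈ S.N x)
    (hy : g ∈ S.N y) : g = 1 := by
  by_contra hg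
  obtain ⟨z, hz⟩ : ∃ z : X, g • z ≠ z := by
    by_contra! h
    exact hg (eq_of_smul_eq_smul fun a : X => by rw [h a, one_smul])
  have hzx : z ≠ x := fun e => hz (by rw [e, S.fixes x g hx])
  have hzy : z ≠ y := fun e => hz (by rw [e, S.fixes y g hy])
  have hmove : ∀ {a : X}, g ∈ S.N a → S.N a ⊓ S.N z ≤ S.N z ⊓ S.N (g • z) := fun {a} ha d hd => by
    refine ⟨hd.2, ?_⟩
    have h1 := S.conj g z d hd.2
    rwa [S.comm a g ha d hd.1, mul_inv_cancel_right] at h1
  have e1 := Subgroup.eq_of_le_of_card_ge (hmove hx) (S.card_D hzx.symm hz.symm).ge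
  have e2 := Subgroup.eq_of_le_of_card_ge (hmove hy) (S.card_D hzy.symm hz.symm).ge
  have e3 : S.N x ⊓ S.N z = S.N y ⊓ S.N z := e1.trans e2.symm
  have e4 : S.N x ⊓ S.N z ≤ S.N x ⊓ S.N y := fun d hd => ⟨hd.1, (e3 ▸ hd : d ∈ S.N y ⊓ S.N z).1⟩
  have e5 := Subgroup.eq_of_le_of_card_ge e4 (S.card_D hzx.symm hxy).ge
  exact hz (S.fixes z g (e5.symm ▸ (⟨hx, hy⟩ : g ∈ S.N x ⊓ S.N y) : g ∈ S.N x ⊓ S.N z).2)

variable [Finite G] [FaithfulSMul G X]

theorem fix_of_commute {x : X} {m g : G} (hm : m ∈ S.N x) (hm1 : m ≠ 1) (h : g * m = m * g) : g • x = x := by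
  by_contra hne
  have h1 := S.conj g x m hm
  rw [h, mul_inv_cancel_right] at h1
  exact hm1 (S.meet_trivial (Ne.symm hne) hm h1)

theorem M_commute {x y : X} (hxy : x ≠ y) {m h : G} (hm : m ∈ S.M x y) (hh : h ∈ S.M y x) : m * h = h * m := by
  have h1 : m * h * m⁻¹ * h⁻¹ ∈ S.N y := by
    have := S.conj m y h hh.1
    rw [hm.2] at this
    exact mul_mem this (inv_mem hh.1)
  have h2 : m * h * m⁻¹ * h⁻¹ ∈ S.N x := by
    have := S.conj h x m⁻¹ (inv_mem hm.1)
    rw [hh.2] at this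
    rw [show m * h * m⁻¹ * h⁻¹ = m * (h * m⁻¹ * h⁻¹) by group]
    exact mul_mem hm.1 this
  exact commutatorElement_eq_one_iff_mul_comm.mp (S.meet_trivial hxy h2 h1)

/-- An element fixing the centre and the point moves it only inside the common part. -/
theorem comm_mem {x y : X} (hxy : x ≠ y) {n h : G} (hn : n ∈ S.N x) (hh : h ∈ S.M y x) :
    n * h * n⁻¹ * h⁻¹ ∈ S.M x y := by
  set c := n * h * n⁻¹ * h⁻¹ with hc
  have hcx : c ∈ S.N x := by
    have := S.conj h x n⁻¹ (inv_mem hn)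
    rw [hh.2] at this
    rw [hc, show n * h * n⁻¹ * h⁻¹ = n * (h * n⁻¹ * h⁻¹) by group]
    exact mul_mem hn this
  refine ⟨hcx, ?_⟩
  change c • y = y
  by_contra hcy
  set u := n • y with hu
  have hnx : n • x = x := S.fixes x n hn
  have huy : u ≠ y := fun e => hcy (by
    have h1 : c = 1 := by rw [hc, S.M_commute hxy ⟨hn, e⟩ hh]; group
    rw [h1, one_smul])
  have hux : u ≠ x := fun e => hxy ((MulAction.injective n) (hnx.trans e.symm))
  -- a nontrivial element of the group of `u` fixing `y`, centralised by the common part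
  have hnorm : ∀ m ∈ S.M x y, ∀ r ∈ S.M u y, m * r * m⁻¹ ∈ S.M u y := fun m hm r hr => by
    have hmu : m • u = u := by rw [hu, ← mul_smul, S.comm x m hm.1 n hn, mul_smul, hm.2]
    have hmem : m * r * m⁻¹ ∈ (S.M u y).map (MulAut.conj m).toMonoidHom := ⟨r, hr, rfl⟩
    rwa [S.M_map, hmu, hm.2] at hmem
  letI : MulAction ↥(S.M x y) ↥(S.M u y) :=
    { smul := fun m r => ⟨m * r * (m : G)⁻¹, hnorm m m.2 r r.2⟩
      one_smul := fun r => Subtype.ext (by change (1 : G) * r * (1 : G)⁻¹ = r; group)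
      mul_smul := fun m m' r => Subtype.ext (by
        change (m * m' : G) * r * ((m : G) * m')⁻¹ = m * (m' * r * (m' : G)⁻¹) * (m : G)⁻¹
        group) }
  haveI : Fact S.p.Prime := ⟨S.hp⟩
  have hdvd : S.p ∣ Nat.card ↥(S.M u y) := by
    obtain ⟨r, hr, hr1⟩ := S.exists_M huy
    haveI : Nontrivial ↥(S.M u y) := ⟨⟨⟨r, hr⟩, 1, fun e => hr1 (congrArg Subtype.val e)⟩⟩
    have hpu : IsPGroup S.p ↥(S.M u y) := (S.pgroup u).to_le inf_le_left
    obtain ⟨k, hk⟩ := IsPGroup.iff_card.mp hpu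
    have h1 := Finite.one_lt_card (α := ↥(S.M u y))
    rcases k with _ | k
    · rw [hk] at h1; simp at h1
    · rw [hk]; exact dvd_pow_self _ (Nat.succ_ne_zero k)
  have hpx : IsPGroup S.p ↥(S.M x y) := (S.pgroup x).to_le inf_le_left
  obtain ⟨k, hkfix, hk1⟩ := hpx.exists_fixed_point_of_prime_dvd_card_of_fixed_point
    ↥(S.M u y) hdvd (a := 1) (fun m => Subtype.ext (by change (m : G) * 1 * (m : G)⁻¹ = 1; group))
  have hkm : ∀ m ∈ S.M x y, (k : G) * m = m * k := fun m hm => by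
    have h1 : m * (k : G) * m⁻¹ = k := congrArg Subtype.val (hkfix ⟨m, hm⟩)
    exact (mul_inv_eq_iff_eq_mul.mp h1).symm
  obtain ⟨m, hm, hm1⟩ := S.exists_M hxy
  have hkx : (k : G) • x = x := S.fix_of_commute hm.1 hm1 (hkm m hm)
  have hh' : n * h * n⁻¹ ∈ S.N u := S.conj n y h hh.1
  have e : (k : G) * (n * h * n⁻¹) * (k : G)⁻¹ = n * h * n⁻¹ := by
    rw [S.comm u k k.2.1 _ hh', mul_inv_cancel_right]
  set a := c⁻¹ * ((k : G) * c * (k : G)⁻¹) with ha
  have hax : a ∈ S.N x := by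
    have := S.conj (k : G) x c hcx
    rw [hkx] at this
    exact mul_mem (inv_mem hcx) this
  have hay : a ∈ S.N y := by
    have h1 := S.conj (k : G) y h hh.1
    rw [show (k : G) • y = y from k.2.2] at h1
    have : a = h * ((k : G) * h * (k : G)⁻¹)⁻¹ := by
      calc a = c⁻¹ * (((k : G) * (n * h * n⁻¹) * (k : G)⁻¹) * ((k : G) * h * (k : G)⁻¹)⁻¹) := by
            rw [ha, hc]; group
        _ = h * ((k : G) * h * (k : G)⁻¹)⁻¹ := by rw [e, hc]; group
    rw [this]
    exact mul_mem hh.1 (inv_mem h1)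
  have hck : (k : G) * c * (k : G)⁻¹ = c := (inv_mul_eq_one.mp (S.meet_trivial hxy hax hay)).symm
  have hk1' : (k : G) ≠ 1 := fun h' => hk1 (Subtype.ext h'.symm)
  have hcu : c • u = u := S.fix_of_commute k.2.1 hk1' (mul_inv_eq_iff_eq_mul.mp hck).symm
  refine hcy (MulAction.injective n ?_)
  change n • c • y = n • y
  rw [← mul_smul, ← S.comm x c hcx n hn, mul_smul]
  exact hcu

/-- Two points seeing a third alike. -/
theorem M_swap {x y z : X} (hxy : x ≠ y) (hxz : x ≠ z) (hyz : y ≠ z) (h : S.M x y = S.M x z) :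
    S.M y x = S.M y z := by
  refine (em (∀ q ∈ S.M y z, q • x = x)).elim (fun hall => ?_) fun hex => ?_
  · exact (S.M_eq_of_le hyz hxy.symm fun q hq => ⟨hq.1, hall q hq⟩).symm
  push Not at hex
  obtain ⟨q, hq, hqx⟩ := hex
  refine S.M_eq_of_le hxy.symm hyz ?_
  let f : S.M x y → S.M y x := fun m => ⟨q * m * q⁻¹ * (m : G)⁻¹, S.comm_mem hxy.symm hq.1 m.2⟩
  have hinj : Function.Injective f := fun a b e => by
    have e' : q * (a : G) * q⁻¹ * (a : G)⁻¹ = q * b * q⁻¹ * (b : G)⁻¹ := congrArg Subtype.val e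
    by_contra hne
    refine hqx (S.fix_of_commute (mul_mem (inv_mem b.2.1) a.2.1) (fun h1 => hne (Subtype.ext (inv_mul_eq_one.mp h1).symm)) ?_)
    calc q * ((b : G)⁻¹ * a) = (q * b * q⁻¹)⁻¹ * (q * (a : G) * q⁻¹ * (a : G)⁻¹) * (a * q) := by group
      _ = (q * b * q⁻¹)⁻¹ * (q * b * q⁻¹ * (b : G)⁻¹) * (a * q) := by rw [e']
      _ = (b : G)⁻¹ * a * q := by group
  have hbij := (Nat.bijective_iff_injective_and_card f).mpr ⟨hinj, S.card_M hxy hxy.symm⟩
  intro d hd
  obtain ⟨m, hm⟩ := hbij.2 ⟨d, hd⟩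
  have hd' : q * (m : G) * q⁻¹ * (m : G)⁻¹ = d := congrArg Subtype.val hm
  refine ⟨hd.1, ?_⟩
  change d • z = z
  have hmz : (m : G) • z = z := (h.le m.2).2
  have hqz : q • z = z := hq.2
  rw [← hd', mul_smul, mul_smul, mul_smul, inv_smul_eq_iff.mpr hmz.symm, inv_smul_eq_iff.mpr hqz.symm, hmz, hqz]

/-- The line through two points. -/
def line (x y : X) : Set X := {w | ∀ m ∈ S.M x y, m • w = w}

theorem mem_line {x y w : X} : w ∈ S.line x y ↔ ∀ m ∈ S.M x y, m • w = w := Iff.rfl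

theorem left_mem (x y : X) : x ∈ S.line x y := fun m hm => S.fixes x m hm.1

theorem right_mem (x y : X) : y ∈ S.line x y := fun _ hm => hm.2

theorem mem_line_iff {x y w : X} (hxy : x ≠ y) (hw : w ≠ x) : w ∈ S.line x y ↔ S.M x w = S.M x y := by
  refine ⟨fun h => (S.M_eq_of_le hxy hw.symm fun m hm => ⟨hm.1, h m hm⟩).symm, fun h m hm => ?_⟩
  rw [← h] at hm
  exact hm.2

theorem line_of_eq {x y w : X} (h : S.M x w = S.M x y) : S.line x w = S.line x y := by
  ext z; simp only [mem_line, h]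

theorem line_symm {x y : X} (hxy : x ≠ y) : S.line x y = S.line y x := by
  suffices ∀ {a b : X}, a ≠ b → S.line a b ⊆ S.line b a from
    Set.Subset.antisymm (this hxy) (this hxy.symm)
  intro a b hab w hw
  by_cases hwa : w = a
  · rw [hwa]; exact S.right_mem b a
  by_cases hwb : w = b
  · rw [hwb]; exact S.left_mem b a
  refine (S.mem_line_iff hab.symm hwb).mpr ?_
  exact (S.M_swap hab (Ne.symm hwa) (Ne.symm hwb) ((S.mem_line_iff hab hwa).mp hw).symm).symm

/-- A line is determined by any two of its points. -/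
theorem line_eq {x y a b : X} (hxy : x ≠ y) (ha : a ∈ S.line x y) (hb : b ∈ S.line x y) (hab : a ≠ b) :
    S.line a b = S.line x y := by
  by_cases hax : a = x
  · subst hax
    exact S.line_of_eq ((S.mem_line_iff hxy hab.symm).mp hb)
  have e : S.line a x = S.line x y := by
    rw [S.line_symm hax]; exact S.line_of_eq ((S.mem_line_iff hxy hax).mp ha)
  rw [← e] at hb
  rw [← e]
  exact S.line_of_eq ((S.mem_line_iff hax hab.symm).mp hb)

theorem smul_mem_line_iff (g : G) {x y w : X} : g • w ∈ S.line (g • x) (g • y) ↔ w ∈ S.line x y := by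
  rw [mem_line, mem_line, ← S.M_map]
  constructor
  · intro h m hm
    have := h _ ⟨m, hm, rfl⟩
    simpa [mul_smul] using this
  · rintro h _ ⟨m, hm, rfl⟩
    simp [mul_smul, h m hm]

/-- The group of a point preserves the lines through it. -/
theorem smul_mem_line {x y w : X} {n : G} (hn : n ∈ S.N x) (hw : w ∈ S.line x y) : n • w ∈ S.line x y :=
  fun m hm => by rw [← mul_smul, S.comm x m hm.1 n hn, mul_smul, hw m hm]

theorem line_pointwise {x y z w : X} {h : G} (hh : h ∈ S.M y x) (hz : h • z = z) (hxz : x ≠ z)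
    (hy : y ∉ S.line x z) (hw : w ∈ S.line x z) : h • w = w := by
  by_contra hne
  have hwy : w ≠ y := fun e => hy (e ▸ hw)
  have h1 : h • w ∈ S.line x z := by
    have := (S.smul_mem_line_iff h).mpr hw
    rwa [hz, show h • x = x from hh.2] at this
  have h2 : h • w ∈ S.line y w := S.smul_mem_line hh.1 (S.right_mem y w)
  have e1 := S.line_eq hxz hw h1 (Ne.symm hne)
  have e2 := S.line_eq hwy.symm (S.right_mem y w) h2 (Ne.symm hne)
  exact hy (by rw [← e1, e2]; exact S.left_mem y w)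

/-- Fixed point sets are subspaces. -/
theorem fix_line {x a b w : X} {m : G} (hm : m ∈ S.N x) (ha : m • a = a) (hb : m • b = b) (hab : a ≠ b)
    (hw : w ∈ S.line a b) : m • w = w := by
  by_cases hx : x ∈ S.line a b
  · by_cases hxa : x = a
    · subst hxa; exact hw m ⟨hm, hb⟩
    · rw [← S.line_eq hab hx (S.left_mem a b) hxa] at hw
      exact hw m ⟨hm, ha⟩
  · exact S.line_pointwise ⟨hm, ha⟩ hb hab hx hw

end Fam

end

end CfsgLib.ElSp
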