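import Cfsg.Agent.Lib.ElationSpace.Basic

set_option autoImplicit false
set_option linter.unusedSectionVars false

/-!
The lines are the orbits of the groups of points, and every line meets every axis.
-/

namespace CfsgLib.ElSp

universe u v

open scoped Classical

noncomputable section

/-- The product of two finite subgroups, counted. -/
theorem card_mul_image {G : Type u} [Group G] [Fintype G] (H K : Subgroup G) :
    (((Finset.univ.filter (· ∈ H)) ×ˢ (Finset.univ.filter (· ∈ K))).image fun a => a.1 * a.2).card *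
        Nat.card ↥(H ⊓ K) = Nat.card H * Nat.card K := by
  set s := (Finset.univ.filter (· ∈ H)) ×ˢ (Finset.univ.filter (· ∈ K))
  have hs : s.card = Nat.card H * Nat.card K := by
    simp only [s, Finset.card_product, Nat.card_eq_fintype_card, Fintype.card_subtype]
  rw [← hs, Finset.card_eq_sum_card_image (fun a => a.1 * a.2) s]
  refine (Finset.sum_const_nat fun g hg => ?_).symm
  obtain ⟨⟨a, b⟩, hab, rfl⟩ := Finset.mem_image.mp hg
  simp only [s, Finset.mem_product, Finset.mem_filter, Finset.mem_univ, true_and] at hab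
  rw [Nat.card_eq_fintype_card, Fintype.card_subtype]
  refine (Finset.card_bij (fun t _ => (a * t, t⁻¹ * b)) (fun t ht => ?_) (fun t _ t' _ e => ?_) fun c hc => ?_).symm
  · simp only [Finset.mem_filter, Finset.mem_univ, true_and, Subgroup.mem_inf] at ht
    simp only [s, Finset.mem_filter, Finset.mem_product, Finset.mem_univ, true_and]
    exact ⟨⟨mul_mem hab.1 ht.1, mul_mem (inv_mem ht.2) hab.2⟩, by group⟩
  · exact mul_left_cancel (congrArg Prod.fst e)
  · obtain ⟨c₁, c₂⟩ := c
    simp only [s, Finset.mem_filter, Finset.mem_product, Finset.mem_univ, true_and] at hc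
    obtain ⟨⟨h1, h2⟩, he⟩ := hc
    have e1 : a⁻¹ * c₁ = b * c₂⁻¹ := by
      rw [eq_mul_inv_iff_mul_eq, mul_assoc, he, inv_mul_cancel_left]
    refine ⟨a⁻¹ * c₁, ?_, ?_⟩
    · simp only [Finset.mem_filter, Finset.mem_univ, true_and, Subgroup.mem_inf]
      exact ⟨mul_mem (inv_mem hab.1) h1, e1 ▸ mul_mem hab.2 (inv_mem h2)⟩
    · refine Prod.ext (by simp) ?_
      change (a⁻¹ * c₁)⁻¹ * b = c₂
      rw [e1]; group

namespace Fam

variable {G : Type u} {X : Type v} [Group G] [MulAction G X] (S : Fam G X) [Finite G] [FaithfulSMul G X] [Fintype X]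

/-- The points of a line. -/
def pts (x y : X) : Finset X := Finset.univ.filter fun w => w ∈ S.line x y

theorem mem_pts {x y w : X} : w ∈ S.pts x y ↔ w ∈ S.line x y := by simp [pts]

theorem pts_smul (g : G) (x y : X) : S.pts (g • x) (g • y) = (S.pts x y).image (g • ·) := by
  ext w
  simp only [Finset.mem_image, mem_pts]
  constructor
  · intro h
    refine ⟨g⁻¹ • w, ?_, smul_inv_smul g w⟩
    rw [← S.smul_mem_line_iff g, smul_inv_smul]; exact h
  · rintro ⟨v, hv, rfl⟩
    exact (S.smul_mem_line_iff g).mpr hv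

theorem card_pts {x y x' y' : X} (h : x ≠ y) (h' : x' ≠ y') : (S.pts x y).card = (S.pts x' y').card := by
  obtain ⟨g, rfl, rfl⟩ := S.two h h'
  rw [S.pts_smul, Finset.card_image_of_injective _ (MulAction.injective g)]

/-- The orbit of a point under the group of another. -/
def orbit (x y : X) : Finset X := Finset.univ.filter fun w => ∃ n ∈ S.N x, n • y = w

theorem mem_orbit {x y w : X} : w ∈ S.orbit x y ↔ ∃ n ∈ S.N x, n • y = w := by simp [orbit]

theorem orbit_mul_card (x y : X) : (S.orbit x y).card * Nat.card (S.M x y) = Nat.card (S.N x) := by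
  haveI := Fintype.ofFinite G
  simp only [Nat.card_eq_fintype_card, Fintype.card_subtype]
  conv_rhs => rw [Finset.card_eq_sum_card_fiberwise (f := fun g : G => g • y) (t := S.orbit x y)
    (fun g hg => by
      have h1 := (Finset.mem_filter.mp hg).2
      simpa [orbit] using ⟨g, h1, rfl⟩)]
  rw [← smul_eq_mul, ← Finset.sum_const]
  refine Finset.sum_congr rfl fun w hw => ?_
  obtain ⟨n, hn, rfl⟩ := S.mem_orbit.mp hw
  refine Finset.card_equiv (Equiv.mulLeft n) fun g => ?_
  simp only [Finset.mem_filter, Finset.mem_univ, true_and, Equiv.coe_mulLeft, mul_smul, smul_left_cancel_iff,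
    S.mem_M]
  exact and_congr_left fun _ => ((S.N x).mul_mem_cancel_left hn).symm

theorem orbit_subset (x y : X) : S.orbit x y ⊆ S.pts x y := fun w hw => by
  obtain ⟨n, hn, rfl⟩ := S.mem_orbit.mp hw
  exact S.mem_pts.mpr (S.smul_mem_line hn (S.right_mem x y))

theorem not_mem_orbit {x y : X} (hxy : x ≠ y) : x ∉ S.orbit x y := fun h => by
  obtain ⟨n, hn, e⟩ := S.mem_orbit.mp h
  exact hxy (MulAction.injective n ((S.fixes x n hn).trans e.symm))

theorem card_N_eq (x x' : X) : Nat.card (S.N x) = Nat.card (S.N x') := by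
  rcases eq_or_ne x x' with rfl | h
  · rfl
  obtain ⟨g, rfl, -⟩ := S.two h h.symm
  rw [← S.N_map]
  exact Nat.card_congr (Subgroup.equivMapOfInjective _ _ (MulEquiv.injective _)).toEquiv

theorem card_M_pos (x y : X) : 0 < Nat.card (S.M x y) := Nat.card_pos

theorem card_orbit {x y x' y' : X} (h : x ≠ y) (h' : x' ≠ y') : (S.orbit x y).card = (S.orbit x' y').card := by
  have h1 := S.orbit_mul_card x y
  rw [S.card_N_eq x x', ← S.orbit_mul_card x' y', S.card_M h h'] at h1
  exact Nat.eq_of_mul_eq_mul_right (S.card_M_pos x' y') h1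

theorem exists_off {x y : X} (hxy : x ≠ y) : ∃ z, z ∉ S.line x y := by
  by_contra! h
  obtain ⟨m, hm, hm1⟩ := S.exists_M hxy
  exact hm1 (eq_of_smul_eq_smul fun w : X => by rw [h w m hm, one_smul])

theorem ne_of_off {x y z : X} (hz : z ∉ S.line x y) : z ≠ x ∧ z ≠ y :=
  ⟨fun e => hz (e ▸ S.left_mem x y), fun e => hz (e ▸ S.right_mem x y)⟩

theorem M_ne_of_off {x y z : X} (hxy : x ≠ y) (hz : z ∉ S.line x y) : S.M x z ≠ S.M x y := fun e =>
  hz ((S.mem_line_iff hxy (S.ne_of_off hz).1).mpr e)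

theorem off_rot {x y z : X} (hxy : x ≠ y) (hz : z ∉ S.line x y) : x ∉ S.line y z := fun h => hz (by
  rw [S.line_eq (S.ne_of_off hz).2.symm h (S.left_mem y z) hxy]
  exact S.right_mem y z)

/-- The largest meet of two members. -/
def jmax : ℕ :=
  (Finset.univ.filter fun t : X × X × X => t.1 ≠ t.2.1 ∧ t.2.2 ∉ S.line t.1 t.2.1).sup
    fun t => Nat.card ↥(S.M t.1 t.2.1 ⊓ S.M t.1 t.2.2)

theorem le_jmax {x y z : X} (hxy : x ≠ y) (hz : z ∉ S.line x y) :
    Nat.card ↥(S.M x y ⊓ S.M x z) ≤ S.jmax :=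
  Finset.le_sup (f := fun t : X × X × X => Nat.card ↥(S.M t.1 t.2.1 ⊓ S.M t.1 t.2.2)) (b := (x, y, z))
    (Finset.mem_filter.mpr ⟨Finset.mem_univ _, hxy, hz⟩)

theorem exists_jmax : ∃ x y z, x ≠ y ∧ z ∉ S.line x y ∧ Nat.card ↥(S.M x y ⊓ S.M x z) = S.jmax := by
  obtain ⟨a, b, hab, -⟩ := S.nsr
  obtain ⟨c, hc⟩ := S.exists_off hab
  obtain ⟨t, ht, e⟩ := Finset.exists_mem_eq_sup _
    (⟨(a, b, c), Finset.mem_filter.mpr ⟨Finset.mem_univ _, hab, hc⟩⟩ :
      (Finset.univ.filter fun t : X × X × X => t.1 ≠ t.2.1 ∧ t.2.2 ∉ S.line t.1 t.2.1).Nonempty)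
    fun t => Nat.card ↥(S.M t.1 t.2.1 ⊓ S.M t.1 t.2.2)
  exact ⟨t.1, t.2.1, t.2.2, (Finset.mem_filter.mp ht).2.1, (Finset.mem_filter.mp ht).2.2, e.symm⟩

/-- The members seen from a point off a line, when their meet is largest. -/
theorem members {x y z : X} (hxy : x ≠ y) (hz : z ∉ S.line x y)
    (hj : Nat.card ↥(S.M x y ⊓ S.M x z) = S.jmax) {w v : X} (hw : w ∈ S.line y z) (hv : v ∈ S.line y z)
    (hwv : w ≠ v) : S.M x w ⊓ S.M x v = S.M x y ⊓ S.M x z := by
  have hyz : y ≠ z := (S.ne_of_off hz).2.symm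
  have hx := S.off_rot hxy hz
  have hwx : x ≠ w := fun e => hx (e ▸ hw)
  have hoff : v ∉ S.line x w := fun h => hx (by
    rw [← S.line_eq hyz hw hv hwv, S.line_eq hwx (S.right_mem x w) h hwv]
    exact S.left_mem x w)
  refine (Subgroup.eq_of_le_of_card_ge ?_ (hj ▸ S.le_jmax hwx hoff)).symm
  intro g hg
  have hfix : ∀ a ∈ S.line y z, g • a = a := fun a ha => S.fix_line hg.1.1 hg.1.2 hg.2.2 hyz ha
  exact ⟨⟨hg.1.1, hfix w hw⟩, hg.1.1, hfix v hv⟩

/-- The nontrivial part of a member over the meet. -/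
def part [Fintype G] (J : Subgroup G) (x w : X) : Finset G := Finset.univ.filter fun g => g ∈ S.M x w ∧ g ∉ J

theorem card_part [Fintype G] {J : Subgroup G} {x w : X} (hJ : J ≤ S.M x w) :
    (S.part J x w).card + Nat.card J = Nat.card (S.M x w) := by
  simp only [Nat.card_eq_fintype_card, Fintype.card_subtype, part]
  rw [← Finset.card_union_of_disjoint]
  · congr 1
    ext g
    simp only [Finset.mem_union, Finset.mem_filter, Finset.mem_univ, true_and]
    exact ⟨fun h => h.elim (fun a => a.1) fun a => hJ a, fun h => (em (g ∈ J)).elim Or.inr fun a => Or.inl ⟨h, a⟩⟩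
  · rw [Finset.disjoint_left]
    intro g h1 h2
    exact (Finset.mem_filter.mp h1).2.2 (Finset.mem_filter.mp h2).2

theorem card_union [Fintype G] {x y z : X} (hxy : x ≠ y) (hz : z ∉ S.line x y)
    (hj : Nat.card ↥(S.M x y ⊓ S.M x z) = S.jmax) (L : Finset X) (hL : ∀ w ∈ L, w ∈ S.line y z) :
    (L.biUnion fun w => S.part (S.M x y ⊓ S.M x z) x w).card + L.card * S.jmax =
      L.card * Nat.card (S.M x y) := by
  have hyz : y ≠ z := (S.ne_of_off hz).2.symm
  have hx := S.off_rot hxy hz
  set J := S.M x y ⊓ S.M x z with hJ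
  have hle : ∀ w ∈ L, J ≤ S.M x w := fun w hw g hg =>
    ⟨hg.1.1, S.fix_line hg.1.1 hg.1.2 hg.2.2 hyz (hL w hw)⟩
  rw [Finset.card_biUnion]
  · rw [show L.card * S.jmax = ∑ _w ∈ L, S.jmax by rw [Finset.sum_const, smul_eq_mul], ← Finset.sum_add_distrib,
      show L.card * Nat.card (S.M x y) = ∑ _w ∈ L, Nat.card (S.M x y) by rw [Finset.sum_const, smul_eq_mul]]
    refine Finset.sum_congr rfl fun w hw => ?_
    rw [← hj, S.card_part (hle w hw), S.card_M (show x ≠ w from fun e => hx (e ▸ hL w hw)) hxy]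
  · intro w hw v hv hne
    simp only [Function.onFun, Finset.disjoint_left, part, Finset.mem_filter, Finset.mem_univ, true_and]
    rintro g ⟨h1, h2⟩ ⟨h3, -⟩
    refine h2 ?_
    rw [hJ, ← S.members hxy hz hj (hL w hw) (hL v hv) hne]
    exact ⟨h1, h3⟩

theorem jmax_lt {x y z : X} (hxy : x ≠ y) (hz : z ∉ S.line x y)
    (hj : Nat.card ↥(S.M x y ⊓ S.M x z) = S.jmax) : 2 * S.jmax ≤ Nat.card (S.M x y) := by
  obtain ⟨k, hk⟩ := Subgroup.card_dvd_of_le (inf_le_left : S.M x y ⊓ S.M x z ≤ S.M x y)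
  rw [hj] at hk
  have hpos := S.card_M_pos x y
  rcases k with _ | _ | k
  · simp [hk] at hpos
  · exfalso
    refine S.M_ne_of_off hxy hz ?_
    have h1 : S.M x y ⊓ S.M x z = S.M x y := Subgroup.eq_of_le_of_card_ge inf_le_left (by rw [hj]; omega)
    exact (S.M_eq_of_le hxy (S.ne_of_off hz).1.symm (inf_eq_left.mp h1)).symm
  · rw [hk, mul_comm]; exact Nat.mul_le_mul_left _ (by omega)

/-- A line is a point together with one orbit of its group. -/
theorem pts_eq {x y : X} (hxy : x ≠ y) : S.pts x y = insert x (S.orbit x y) := by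
  haveI := Fintype.ofFinite G
  refine (Finset.eq_of_subset_of_card_le (Finset.insert_subset (S.mem_pts.mpr (S.left_mem x y))
    (S.orbit_subset x y)) ?_).symm
  by_contra hlt
  push Not at hlt
  obtain ⟨w, hw, hwn⟩ : ∃ w ∈ S.pts x y, w ∉ insert x (S.orbit x y) := by
    by_contra! h
    exact absurd (Finset.card_le_card (fun a ha => h a ha)) (not_le.mpr hlt)
  simp only [Finset.mem_insert, not_or] at hwn
  -- two orbits on the line
  have h2 : 2 * (S.orbit x y).card + 1 ≤ (S.pts x y).card := by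
    have hdisj : Disjoint (S.orbit x y) (S.orbit x w) := Finset.disjoint_left.mpr fun a ha ha' => hwn.2 (by
      obtain ⟨n, hn, rfl⟩ := S.mem_orbit.mp ha
      obtain ⟨n', hn', e⟩ := S.mem_orbit.mp ha'
      exact S.mem_orbit.mpr ⟨n'⁻¹ * n, mul_mem (inv_mem hn') hn, by rw [mul_smul, ← e, inv_smul_smul]⟩)
    have hsub : insert x (S.orbit x y ∪ S.orbit x w) ⊆ S.pts x y := by
      refine Finset.insert_subset (S.mem_pts.mpr (S.left_mem x y))
        (Finset.union_subset (S.orbit_subset x y) fun a ha => ?_)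
      obtain ⟨n, hn, rfl⟩ := S.mem_orbit.mp ha
      exact S.mem_pts.mpr (S.smul_mem_line hn (S.mem_pts.mp hw))
    have := Finset.card_le_card hsub
    rw [Finset.card_insert_of_notMem (by
        simp only [Finset.mem_union, not_or]
        exact ⟨S.not_mem_orbit hxy, S.not_mem_orbit (Ne.symm hwn.1)⟩),
      Finset.card_union_of_disjoint hdisj, S.card_orbit (Ne.symm hwn.1) hxy] at this
    omega
  obtain ⟨a, b, c, hab, hc, hj⟩ := S.exists_jmax
  set L := S.pts b c
  have h3 := S.card_union hab hc hj L fun v hv => S.mem_pts.mp hv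
  have h4 : ((L.biUnion fun v => S.part (S.M a b ⊓ S.M a c) a v)).card ≤ Nat.card (S.N a) := by
    rw [Nat.card_eq_fintype_card, Fintype.card_subtype]
    refine Finset.card_le_card fun g hg => ?_
    obtain ⟨v, -, hv⟩ := Finset.mem_biUnion.mp hg
    exact Finset.mem_filter.mpr ⟨Finset.mem_univ _, (Finset.mem_filter.mp hv).2.1.1⟩
  rw [← S.orbit_mul_card a b, S.card_orbit hab hxy] at h4
  have h5 := S.jmax_lt hab hc hj
  have h6 : L.card = (S.pts x y).card := S.card_pts (S.ne_of_off hc).2.symm hxy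
  rw [h6] at h3
  have hq : 0 < (S.orbit x y).card :=
    Finset.card_pos.mpr ⟨y, S.mem_orbit.mpr ⟨1, one_mem _, one_smul _ _⟩⟩
  have hm := S.card_M_pos a b
  nlinarith

theorem card_line {x y : X} (hxy : x ≠ y) : (S.pts x y).card = (S.orbit x y).card + 1 := by
  rw [S.pts_eq hxy, Finset.card_insert_of_notMem (S.not_mem_orbit hxy)]

/-- With a largest meet, the members along a line cover the whole group. -/
theorem cover_max {x y z : X} (hxy : x ≠ y) (hz : z ∉ S.line x y)
    (hj : Nat.card ↥(S.M x y ⊓ S.M x z) = S.jmax) :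
    Nat.card (S.M x y) = (S.orbit x y).card * S.jmax ∧
      ∀ n ∈ S.N x, ∃ w ∈ S.line y z, n • w = w := by
  haveI := Fintype.ofFinite G
  have hyz : y ≠ z := (S.ne_of_off hz).2.symm
  have hx := S.off_rot hxy hz
  set J := S.M x y ⊓ S.M x z with hJ
  set μ := Nat.card (S.M x y) with hμ
  set q := (S.orbit x y).card with hq
  have hjpos : 0 < S.jmax := by rw [← hj]; exact Nat.card_pos
  obtain ⟨B, hB⟩ : S.jmax ∣ μ := hj ▸ Subgroup.card_dvd_of_le (inf_le_left : J ≤ S.M x y)
  have hB2 : 2 ≤ B := by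
    have := S.jmax_lt hxy hz hj
    rw [← hμ, hB] at this
    nlinarith
  -- the union of the members along the line
  let W : Finset G := Finset.univ.filter fun g => ∃ w ∈ S.line y z, g ∈ S.M x w
  -- every two members span inside the union
  have hspan : ∀ a ∈ S.line y z, ∀ b ∈ S.line y z, a ≠ b → ∀ g ∈ S.M x a, ∀ g' ∈ S.M x b, g * g' ∈ W := by
    intro a ha b hb hab g hg g' hg'
    have hxa : x ≠ a := fun e => hx (e ▸ ha)
    have hxb : x ≠ b := fun e => hx (e ▸ hb)
    have hxab : x ∉ S.line a b := by rwa [S.line_eq hyz ha hb hab]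
    have hjab : Nat.card ↥(S.M x a ⊓ S.M x b) = S.jmax := by rw [S.members hxy hz hj ha hb hab, hj]
    set O := Finset.univ.filter fun w => ∃ h ∈ S.M a x, h • b = w
    have hOmem : ∀ w ∈ O, ∃ h ∈ S.M a x, h • b = w := fun w hw => (Finset.mem_filter.mp hw).2
    -- the orbit lies on the line and avoids `a`
    have hOline : ∀ w ∈ O, w ∈ S.line y z ∧ w ≠ a := fun w hw => by
      obtain ⟨h, hh, rfl⟩ := hOmem w hw
      refine ⟨?_, fun e => hab ?_⟩
      · rw [← S.line_eq hyz ha hb hab]; exact S.smul_mem_line hh.1 (S.right_mem a b)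
      · exact MulAction.injective h ((S.fixes a h hh.1).trans e.symm)
    have hOcard : B ≤ O.card := by
      have hc : O.card * Nat.card ↥(S.M a x ⊓ S.M a b) = Nat.card (S.M a x) := by
        simp only [Nat.card_eq_fintype_card, Fintype.card_subtype]
        conv_rhs => rw [Finset.card_eq_sum_card_fiberwise (f := fun g : G => g • b) (t := O)
          (fun g hg => by
            have h1 := (Finset.mem_filter.mp hg).2
            simpa [O] using ⟨g, h1, rfl⟩)]
        rw [← smul_eq_mul, ← Finset.sum_const]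
        refine Finset.sum_congr rfl fun w hw => ?_
        obtain ⟨h, hh, rfl⟩ := hOmem w hw
        refine Finset.card_equiv (Equiv.mulLeft h) fun k => ?_
        simp only [Finset.mem_filter, Finset.mem_univ, true_and, Equiv.coe_mulLeft, mul_smul,
          smul_left_cancel_iff, Subgroup.mem_inf, S.mem_M]
        constructor
        · rintro ⟨h1, -, h3⟩
          exact ⟨⟨mul_mem hh.1 h1.1, by rw [h1.2, hh.2]⟩, h3⟩
        · rintro ⟨⟨h1, h2⟩, h3⟩
          have h1' : k ∈ S.N a := ((S.N a).mul_mem_cancel_left hh.1).mp h1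
          exact ⟨⟨h1', MulAction.injective h (h2.trans hh.2.symm)⟩, h1', h3⟩
      have hoff : b ∉ S.line a x := fun e => hxab (by
        rw [S.line_eq hxa.symm (S.left_mem a x) e hab]; exact S.right_mem a x)
      have hle := S.le_jmax hxa.symm hoff
      rw [S.card_M hxa.symm hxy, ← hμ, hB] at hc
      have h1 := Nat.mul_le_mul_left O.card hle
      rw [hc, mul_comm O.card S.jmax] at h1
      exact Nat.le_of_mul_le_mul_left h1 hjpos
    obtain ⟨O', hO', hO'card⟩ := Finset.exists_subset_card_eq hOcard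
    set L := insert a O'
    have hL : ∀ w ∈ L, w ∈ S.line a b := fun w hw => by
      rw [S.line_eq hyz ha hb hab]
      rcases Finset.mem_insert.mp hw with rfl | h
      exacts [ha, (hOline w (hO' h)).1]
    have hLcard : L.card = B + 1 := by
      rw [Finset.card_insert_of_notMem fun h => (hOline a (hO' h)).2 rfl, hO'card]
    have hbline : b ∉ S.line x a := fun e => hxab (by
      rw [S.line_eq hxa (S.right_mem x a) e hab]; exact S.left_mem x a)
    have hu := S.card_union hxa hbline hjab L hL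
    rw [S.card_M hxa hxy, ← hμ, hB, hLcard] at hu
    -- all inside the product
    set U := ((Finset.univ.filter (· ∈ S.M x a)) ×ˢ (Finset.univ.filter (· ∈ S.M x b))).image fun p => p.1 * p.2
    have hUcard : U.card * S.jmax = μ * μ := by
      rw [← hjab, card_mul_image, S.card_M hxa hxy, S.card_M hxb hxy]
    set V := (L.biUnion fun w => S.part (S.M x a ⊓ S.M x b) x w) ∪ Finset.univ.filter (· ∈ S.M x a ⊓ S.M x b)
    have hVU : V ⊆ U := by
      intro k hk
      rcases Finset.mem_union.mp hk with hk | hk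
      · obtain ⟨w, hw, hk⟩ := Finset.mem_biUnion.mp hk
        have hkw := (Finset.mem_filter.mp hk).2.1
        simp only [U, Finset.mem_image, Finset.mem_product, Finset.mem_filter, Finset.mem_univ, true_and]
        rcases Finset.mem_insert.mp hw with rfl | hwO
        · exact ⟨(k, 1), ⟨hkw, one_mem _⟩, mul_one k⟩
        obtain ⟨h, hh, rfl⟩ := hOmem w (hO' hwO)
        have hr : h⁻¹ * k * h ∈ S.M x b := by
          have h1 : h⁻¹ * k * h⁻¹⁻¹ ∈ (S.M x (h • b)).map (MulAut.conj h⁻¹).toMonoidHom := ⟨k, hkw, rfl⟩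
          rwa [S.M_map, inv_smul_smul, inv_smul_eq_iff.mpr hh.2.symm, inv_inv] at h1
        have hcm := S.comm_mem hxa hr.1 hh
        refine ⟨(((h⁻¹ * k * h) * h * (h⁻¹ * k * h)⁻¹ * h⁻¹)⁻¹, h⁻¹ * k * h), ⟨inv_mem hcm, hr⟩, ?_⟩
        group
      · have hk' := (Finset.mem_filter.mp hk).2
        simp only [U, Finset.mem_image, Finset.mem_product, Finset.mem_filter, Finset.mem_univ, true_and]
        exact ⟨(k, 1), ⟨hk'.1, one_mem _⟩, mul_one k⟩
    have hVcard : V.card = (L.biUnion fun w => S.part (S.M x a ⊓ S.M x b) x w).card + S.jmax := by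
      rw [Finset.card_union_of_disjoint, ← hjab, Nat.card_eq_fintype_card, Fintype.card_subtype]
      rw [Finset.disjoint_left]
      intro k hk hk'
      obtain ⟨w, -, hk⟩ := Finset.mem_biUnion.mp hk
      exact (Finset.mem_filter.mp hk).2.2 (Finset.mem_filter.mp hk').2
    have hVU' : V = U := by
      refine Finset.eq_of_subset_of_card_le hVU ?_
      have h1 : U.card * S.jmax ≤ V.card * S.jmax := by
        rw [hUcard, hVcard, hB]
        nlinarith [hu]
      exact Nat.le_of_mul_le_mul_right h1 hjpos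
    have hmem : g * g' ∈ U := by
      simp only [U, Finset.mem_image, Finset.mem_product, Finset.mem_filter, Finset.mem_univ, true_and]
      exact ⟨(g, g'), ⟨hg, hg'⟩, rfl⟩
    rw [← hVU'] at hmem
    refine Finset.mem_filter.mpr ⟨Finset.mem_univ _, ?_⟩
    rcases Finset.mem_union.mp hmem with h | h
    · obtain ⟨w, hw, hk⟩ := Finset.mem_biUnion.mp h
      exact ⟨w, by rw [← S.line_eq hyz ha hb hab]; exact hL w hw, (Finset.mem_filter.mp hk).2.1⟩
    · exact ⟨a, ha, (Finset.mem_filter.mp h).2.1⟩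
  let Wg : Subgroup G :=
    { carrier := {g | ∃ w ∈ S.line y z, g ∈ S.M x w}
      one_mem' := ⟨y, S.left_mem y z, one_mem _⟩
      inv_mem' := fun {g} ⟨w, hw, hg⟩ => ⟨w, hw, inv_mem hg⟩
      mul_mem' := fun {g g'} ⟨a, ha, hg⟩ ⟨b, hb, hg'⟩ => by
        by_cases hab : a = b
        · subst hab; exact ⟨a, ha, mul_mem hg hg'⟩
        · exact (Finset.mem_filter.mp (hspan a ha b hb hab g hg g' hg')).2 }
  have hWle : Wg ≤ S.N x := fun g hg => by
    obtain ⟨w, -, hg⟩ := hg
    exact hg.1
  have hWcard : Nat.card Wg + (S.pts y z).card * S.jmax = (S.pts y z).card * μ + S.jmax := by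
    rw [hμ, ← S.card_union hxy hz hj (S.pts y z) (fun w hw => S.mem_pts.mp hw)]
    have : Nat.card Wg = ((S.pts y z).biUnion fun w => S.part J x w).card + S.jmax := by
      rw [← hj, Nat.card_eq_fintype_card, Fintype.card_subtype, Nat.card_eq_fintype_card, Fintype.card_subtype,
        ← Finset.card_union_of_disjoint]
      · congr 1
        ext g
        simp only [Finset.mem_union, Finset.mem_biUnion, Finset.mem_filter, Finset.mem_univ, true_and, S.mem_pts,
          part]
        constructor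
        · rintro ⟨w, hw, hg⟩
          exact (em (g ∈ J)).elim Or.inr fun h => Or.inl ⟨w, hw, hg, h⟩
        · rintro (⟨w, hw, hg, -⟩ | h)
          exacts [⟨w, hw, hg⟩, ⟨y, S.left_mem y z, h.1⟩]
      · rw [Finset.disjoint_left]
        intro g hg hg'
        obtain ⟨w, -, hk⟩ := Finset.mem_biUnion.mp hg
        exact (Finset.mem_filter.mp hk).2.2 (Finset.mem_filter.mp hg').2
    rw [this]; ring
  have hline : (S.pts y z).card = q + 1 := by rw [S.card_pts hyz hxy, S.card_line hxy]
  obtain ⟨k, hk⟩ := Subgroup.card_dvd_of_le hWle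
  have hN := S.orbit_mul_card x y
  rw [← hq, ← hμ, hB] at hN
  rw [← hN] at hk
  rw [hline, hB] at hWcard
  have hWpos : 0 < Nat.card Wg := Nat.card_pos
  have hk1 : k = 1 := by
    rcases k with _ | _ | k
    · exfalso
      rw [mul_zero] at hk
      have : 0 < q * (S.jmax * B) := Nat.mul_pos
        (Finset.card_pos.mpr ⟨y, S.mem_orbit.mpr ⟨1, one_mem _, one_smul _ _⟩⟩) (by positivity)
      omega
    · rfl
    · exfalso
      have : 2 * Nat.card Wg ≤ Nat.card Wg * (k + 1 + 1) := by rw [mul_comm 2]; exact Nat.mul_le_mul_left _ (by omega)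
      rw [← hk] at this
      nlinarith
  subst hk1
  rw [mul_one] at hk
  refine ⟨?_, fun n hn => ?_⟩
  · rw [← hk] at hWcard
    rw [hB]
    nlinarith
  · have hWN : Wg = S.N x := Subgroup.eq_of_le_of_card_ge hWle (by
      rw [← S.orbit_mul_card x y, ← hq, ← hμ, hB, hk])
    rw [← hWN] at hn
    obtain ⟨w, hw, hg⟩ := hn
    exact ⟨w, hw, hg.2⟩

/-- Every element of the group of a point fixes a point of every line. -/
theorem exists_fixed_on_line {x y z : X} {n : G} (hn : n ∈ S.N x) (hyz : y ≠ z) :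
    ∃ w ∈ S.line y z, n • w = w := by
  by_cases hx : x ∈ S.line y z
  · exact ⟨x, hx, S.fixes x n hn⟩
  have hxy : x ≠ y := fun e => hx (e ▸ S.left_mem y z)
  have hz : z ∉ S.line x y := fun e => hx (by
    rw [S.line_eq hxy (S.right_mem x y) e hyz]; exact S.left_mem x y)
  refine (S.cover_max hxy hz ?_).2 n hn
  refine le_antisymm (S.le_jmax hxy hz) ?_
  obtain ⟨a, b, c, hab, hc, hj⟩ := S.exists_jmax
  have hm := (S.cover_max hab hc hj).1
  rw [S.card_M hab hxy, S.card_orbit hab hxy] at hm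
  haveI := Fintype.ofFinite G
  set U := ((Finset.univ.filter (· ∈ S.M x y)) ×ˢ (Finset.univ.filter (· ∈ S.M x z))).image fun p => p.1 * p.2
  have hU : U.card ≤ Nat.card (S.N x) := by
    rw [Nat.card_eq_fintype_card, Fintype.card_subtype]
    refine Finset.card_le_card fun g hg => ?_
    simp only [U, Finset.mem_image, Finset.mem_product, Finset.mem_filter, Finset.mem_univ, true_and] at hg
    obtain ⟨⟨g₁, g₂⟩, ⟨h1, h2⟩, rfl⟩ := hg
    exact Finset.mem_filter.mpr ⟨Finset.mem_univ _, mul_mem h1.1 h2.1⟩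
  have h1 : U.card * Nat.card ↥(S.M x y ⊓ S.M x z) = Nat.card (S.M x y) * Nat.card (S.M x z) := card_mul_image _ _
  have h2 := Nat.mul_le_mul_right (Nat.card ↥(S.M x y ⊓ S.M x z)) hU
  rw [h1, ← S.orbit_mul_card x y, S.card_M (S.ne_of_off hz).1.symm hxy] at h2
  have hq : 0 < (S.orbit x y).card :=
    Finset.card_pos.mpr ⟨y, S.mem_orbit.mpr ⟨1, one_mem _, one_smul _ _⟩⟩
  have hμ := S.card_M_pos x y
  have h3 : Nat.card (S.M x y) ≤ (S.orbit x y).card * Nat.card ↥(S.M x y ⊓ S.M x z) :=
    Nat.le_of_mul_le_mul_right (by linarith) hμ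
  rw [hm] at h3
  exact Nat.le_of_mul_le_mul_left h3 hq

end Fam

end

end CfsgLib.ElSp
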