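import Cfsg.Agent.Lib.ElationSpace.Main
import Cfsg.Agent.Lib.Components
import Cfsg.Agent.Lib.SLPerfect

set_option autoImplicit false
set_option linter.unusedSectionVars false

/-!
From an abelian normal subgroup of a point stabiliser to a family of elementary abelian groups, and the
generalised Fitting subgroup of an almost simple group.
-/

namespace CfsgLib.ElSp

universe u v

open scoped Classical commutatorElement

noncomputable section

variable {G : Type u} {X : Type v} [Group G] [Finite G] [MulAction G X]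

/-- An abelian normal subgroup of a stabiliser which is not semiregular yields a family. -/
theorem exists_fam (two : ∀ {x y x' y' : X}, x ≠ y → x' ≠ y' → ∃ g : G, g • x = x' ∧ g • y = y') (x : X)
    (N : Subgroup G) (hle : N ≤ MulAction.stabilizer G x)
    (hnormal : ∀ g ∈ MulAction.stabilizer G x, ∀ n ∈ N, g * n * g⁻¹ ∈ N)
    (hab : ∀ a ∈ N, ∀ b ∈ N, a * b = b * a) (hnsr : ∃ n ∈ N, n ≠ 1 ∧ ∃ y : X, y ≠ x ∧ n • y = y) :
    Nonempty (Fam G X) := by
  obtain ⟨n₀, hn₀, hn₁, y, hy, hfix⟩ := hnsr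
  obtain ⟨p, hp, hpd⟩ := Nat.exists_prime_and_dvd (mt orderOf_eq_one_iff.mp hn₁)
  have htr : ∀ w : X, ∃ g : G, g • x = w := fun w => by
    rcases eq_or_ne w x with rfl | hwx
    · exact ⟨1, one_smul _ _⟩
    · obtain ⟨g, e, -⟩ := two (x' := w) (y' := x) hy.symm hwx
      exact ⟨g, e⟩
  choose g₀ hg₀ using htr
  let N₀ : Subgroup G :=
    { carrier := {n | n ∈ N ∧ n ^ p = 1}
      one_mem' := ⟨one_mem _, one_pow p⟩
      mul_mem' := fun {a b} ha hb => ⟨mul_mem ha.1 hb.1, by rw [(Commute.mul_pow (hab a ha.1 b hb.1)), ha.2, hb.2, one_mul]⟩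
      inv_mem' := fun {a} ha => ⟨inv_mem ha.1, by rw [inv_pow, ha.2, inv_one]⟩ }
  have hN₀mem : ∀ {n : G}, n ∈ N₀ ↔ n ∈ N ∧ n ^ p = 1 := Iff.rfl
  refine ⟨{ N := fun w => N₀.map (MulAut.conj (g₀ w)).toMonoidHom, fixes := ?_, conj := ?_, comm := ?_,
            p := p, hp := hp, pgroup := ?_, two := two, nsr := ?_ }⟩
  · rintro w _ ⟨n, hn, rfl⟩
    simp only [MulEquiv.coe_toMonoidHom, MulAut.conj_apply, mul_smul]
    rw [show (g₀ w)⁻¹ • w = x by rw [inv_smul_eq_iff]; exact (hg₀ w).symm, MulAction.mem_stabilizer_iff.mp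
      (hle (hN₀mem.mp hn).1), hg₀]
  · rintro g w _ ⟨n, hn, rfl⟩
    set k := (g₀ (g • w))⁻¹ * g * g₀ w
    have hk : k ∈ MulAction.stabilizer G x := by
      rw [MulAction.mem_stabilizer_iff, mul_smul, mul_smul, hg₀, inv_smul_eq_iff]
      exact (hg₀ _).symm
    refine ⟨k * n * k⁻¹, hN₀mem.mpr ⟨hnormal k hk n (hN₀mem.mp hn).1, by rw [conj_pow, (hN₀mem.mp hn).2]; group⟩, ?_⟩
    simp only [MulEquiv.coe_toMonoidHom, MulAut.conj_apply, k]
    group
  · rintro w _ ⟨a, ha, rfl⟩ _ ⟨b, hb, rfl⟩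
    rw [← map_mul, ← map_mul, hab a (hN₀mem.mp ha).1 b (hN₀mem.mp hb).1]
  · rintro w ⟨_, n, hn, rfl⟩
    refine ⟨1, Subtype.ext ?_⟩
    rw [SubmonoidClass.coe_pow, pow_one, OneMemClass.coe_one, ← map_pow, (hN₀mem.mp hn).2, map_one]
  · have hd : 0 < orderOf n₀ / p :=
      Nat.div_pos (Nat.le_of_dvd (orderOf_pos n₀) hpd) hp.pos
    refine ⟨x, g₀ x • y, fun e => hy ?_, g₀ x * n₀ ^ (orderOf n₀ / p) * (g₀ x)⁻¹, ?_, ?_, ?_⟩
    · exact MulAction.injective (g₀ x) (e.symm.trans (hg₀ x).symm)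
    · refine ⟨_, hN₀mem.mpr ⟨pow_mem hn₀ _, ?_⟩, rfl⟩
      rw [← pow_mul, Nat.div_mul_cancel hpd, pow_orderOf_eq_one]
    · intro e
      have h1 : n₀ ^ (orderOf n₀ / p) = 1 := by simpa using e
      have := orderOf_le_of_pow_eq_one hd h1
      have := Nat.div_lt_self (orderOf_pos n₀) hp.one_lt
      omega
    · have hpow : ∀ j : ℕ, n₀ ^ j • y = y := fun j => by
        induction j with
        | zero => simp
        | succ j ih => rw [pow_succ, mul_smul, hfix, ih]
      rw [mul_smul, mul_smul, inv_smul_smul, hpow]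

/-- In a group with a simple non-abelian normal subgroup of trivial centraliser this is the generalised Fitting subgroup. -/
theorem fstar_eq (L : Subgroup G) [hL : L.Normal] (hs : IsSimpleGroup ↥L)
    (hc : Subgroup.centralizer (L : Set G) = ⊥) : Cfsg.generalizedFittingSubgroup G = L := by
  have hne : L ≠ ⊥ := fun e => by
    haveI := hs.toNontrivial
    obtain ⟨⟨a, ha⟩, hne⟩ := exists_ne (1 : ↥L)
    exact hne (Subtype.ext (Subgroup.mem_bot.mp (e ▸ ha)))
  have hnc : ¬ IsMulCommutative ↥L := fun hcomm => hne (eq_bot_iff.mpr fun a ha => hc ▸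
    Subgroup.mem_centralizer_iff.mpr fun b hb => congrArg Subtype.val (hcomm.is_comm.comm (⟨b, hb⟩ : L) ⟨a, ha⟩))
  haveI := hs
  have hq : Cfsg.IsQuasisimple ↥L := by
    have hz : Subgroup.center ↥L = ⊥ := by
      rcases IsSimpleGroup.eq_bot_or_eq_top_of_normal (Subgroup.center ↥L) inferInstance with h | h
      · exact h
      · exact absurd ⟨⟨fun a b => (Subgroup.mem_center_iff.mp (h.ge (Subgroup.mem_top a)) b).symm⟩⟩ hnc
    refine ⟨⟨?_⟩, ?_⟩
    · rcases IsSimpleGroup.eq_bot_or_eq_top_of_normal (commutator ↥L) inferInstance with h | h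
      · exfalso
        refine hnc ⟨⟨fun a b => ?_⟩⟩
        have h1 : ⁅a, b⁆ ∈ commutator ↥L :=
          Subgroup.commutator_mem_commutator (Subgroup.mem_top a) (Subgroup.mem_top b)
        rw [h, Subgroup.mem_bot] at h1
        exact commutatorElement_eq_one_iff_mul_comm.mp h1
      · exact h
    · exact ((QuotientGroup.quotientMulEquivOfEq hz).trans QuotientGroup.quotientBot).isSimpleGroup
  have hcomp : Cfsg.IsComponent L := ⟨Subgroup.Normal.isSubnormal hL, hq⟩
  have hlayer : Cfsg.layer G = L := by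
    refine le_antisymm (sSup_le fun K hK => ?_) (le_sSup hcomp)
    rcases CfsgLib.component_le_or_commutator_eq_bot hK L with h | h
    · exact h
    · exfalso
      rw [Subgroup.commutator_eq_bot_iff_le_centralizer, hc] at h
      exact CfsgLib.isComponent_ne_bot hK (le_bot_iff.mp h)
  have hfit : Cfsg.fittingSubgroup G = ⊥ := by
    haveI := CfsgLib.isNilpotent_fittingSubgroup (G := G)
    rcases IsSimpleGroup.eq_bot_or_eq_top_of_normal ((Cfsg.fittingSubgroup G).subgroupOf L) inferInstance with h | h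
    · rw [eq_bot_iff, ← hc]
      intro a ha
      refine Subgroup.mem_centralizer_iff.mpr fun b hb => ?_
      have h1 : b * a * b⁻¹ * a⁻¹ ∈ Cfsg.fittingSubgroup G ⊓ L := by
        refine ⟨mul_mem (Subgroup.Normal.conj_mem inferInstance a ha b) ((Cfsg.fittingSubgroup G).inv_mem ha), ?_⟩
        rw [show b * a * b⁻¹ * a⁻¹ = b * (a * b⁻¹ * a⁻¹) by group]
        exact mul_mem hb (Subgroup.Normal.conj_mem hL _ (L.inv_mem hb) a)
      rw [Subgroup.subgroupOf_eq_bot] at h
      exact commutatorElement_eq_one_iff_mul_comm.mp (Subgroup.mem_bot.mp (h.le_bot h1))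
    · exfalso
      have hLF : L ≤ Cfsg.fittingSubgroup G := Subgroup.subgroupOf_eq_top.mp h
      haveI : Group.IsNilpotent ↥L := Group.nilpotent_of_mulEquiv (Subgroup.subgroupOfEquivOfLe hLF)
      exact CfsgLib.isQuasisimple_not_isSolvable hq inferInstance
  rw [Cfsg.generalizedFittingSubgroup, hlayer, hfit, sup_bot_eq]

end

end CfsgLib.ElSp
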