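import Cfsg.Agent.Lib.ElationSpace.Cover
import Cfsg.Agent.Lib.AxialDesign.FromGroup

set_option autoImplicit false
set_option linter.unusedSectionVars false

/-!
The axes form a symmetric design, whence the group contains the projective special linear group.
-/

namespace CfsgLib.ElSp

universe u v

open scoped Classical

noncomputable section

namespace Fam

variable {G : Type u} {X : Type v} [Group G] [MulAction G X] (S : Fam G X) [Finite G] [FaithfulSMul G X] [Fintype X]

/-- An axis: the fixed points of an elation. -/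
def IsAxis (C : Finset X) : Prop := ∃ x, ∃ m ∈ S.N x, m ≠ 1 ∧ ∀ w, w ∈ C ↔ m • w = w

theorem axis_closed {C : Finset X} (hC : S.IsAxis C) {a b w : X} (ha : a ∈ C) (hb : b ∈ C) (hab : a ≠ b)
    (hw : w ∈ S.line a b) : w ∈ C := by
  obtain ⟨x, m, hm, -, h⟩ := hC
  exact (h w).mpr (S.fix_line hm ((h a).mp ha) ((h b).mp hb) hab hw)

theorem axis_meets {C : Finset X} (hC : S.IsAxis C) {y z : X} (hyz : y ≠ z) : ∃ w ∈ S.line y z, w ∈ C := by
  obtain ⟨x, m, hm, -, h⟩ := hC
  obtain ⟨w, hw, e⟩ := S.exists_fixed_on_line hm hyz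
  exact ⟨w, hw, (h w).mpr e⟩

theorem axis_smul {C : Finset X} (hC : S.IsAxis C) (g : G) : S.IsAxis (C.image (g • ·)) := by
  obtain ⟨x, m, hm, hm1, h⟩ := hC
  refine ⟨g • x, g * m * g⁻¹, S.conj g x m hm, by simpa using hm1, fun w => ?_⟩
  rw [Finset.mem_image]
  constructor
  · rintro ⟨v, hv, rfl⟩
    rw [mul_smul, mul_smul, inv_smul_smul, (h v).mp hv]
  · intro e
    refine ⟨g⁻¹ • w, (h _).mpr ?_, smul_inv_smul g w⟩
    rw [eq_inv_smul_iff, ← mul_smul, ← mul_smul]
    exact e

/-- A closed set is a cone over a closed set meeting all its lines. -/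
theorem cone (T H : Finset X) (q : ℕ) (hq : ∀ a b : X, a ≠ b → (S.pts a b).card = q + 1) (hHT : H ⊆ T)
    (hT : ∀ a ∈ T, ∀ b ∈ T, a ≠ b → ∀ w ∈ S.line a b, w ∈ T)
    (hH : ∀ a ∈ H, ∀ b ∈ H, a ≠ b → ∀ w ∈ S.line a b, w ∈ H)
    (hmeet : ∀ a ∈ T, ∀ b ∈ T, a ≠ b → ∃ w ∈ S.line a b, w ∈ H) {y : X} (hy : y ∈ T) (hyH : y ∉ H) :
    T.card = 1 + H.card * q := by
  have hne : ∀ {f}, f ∈ H → y ≠ f := fun hf e => hyH (e ▸ hf)
  have e : T.erase y = H.biUnion fun f => (S.pts y f).erase y := by
    ext w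
    simp only [Finset.mem_erase, Finset.mem_biUnion, S.mem_pts]
    constructor
    · rintro ⟨hwy, hw⟩
      obtain ⟨f, hf, hfH⟩ := hmeet y hy w hw (Ne.symm hwy)
      refine ⟨f, hfH, hwy, ?_⟩
      rw [S.line_eq (Ne.symm hwy) (S.left_mem y w) hf (hne hfH)]
      exact S.right_mem y w
    · rintro ⟨f, hf, hwy, hw⟩
      exact ⟨hwy, hT y hy f (hHT hf) (hne hf) w hw⟩
  have h1 : (T.erase y).card = H.card * q := by
    rw [e, Finset.card_biUnion]
    · refine Finset.sum_const_nat fun f hf => ?_
      rw [Finset.card_erase_of_mem (S.mem_pts.mpr (S.left_mem y f)), hq y f (hne hf), Nat.add_sub_cancel]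
    · intro f hf f' hf' hff
      simp only [Function.onFun, Finset.disjoint_left, Finset.mem_erase, S.mem_pts]
      rintro w ⟨hwy, h1⟩ ⟨-, h2⟩
      have e1 := S.line_eq (hne hf) (S.left_mem y f) h1 (Ne.symm hwy)
      have e2 := S.line_eq (hne hf') (S.left_mem y f') h2 (Ne.symm hwy)
      have hf'l : f' ∈ S.line y f := by rw [← e1, e2]; exact S.right_mem y f'
      refine hyH (hH f hf f' hf' hff y ?_)
      rw [S.line_eq (hne hf) (S.right_mem y f) hf'l hff]
      exact S.left_mem y f
  rw [← Finset.card_erase_add_one hy, h1, add_comm]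

include S in
/-- The group contains a projective special linear group with trivial centraliser. -/
theorem recognition :
    ∃ (m : ℕ) (F : Type) (_ : Field F) (_ : Fintype F), 2 ≤ m ∧
      Nat.card X = (Fintype.card F ^ (m + 1) - 1) / (Fintype.card F - 1) ∧
      ∃ N : Subgroup G, N.Normal ∧ Nonempty (N ≃* Matrix.ProjectiveSpecialLinearGroup (Fin (m + 1)) F) ∧
        Subgroup.centralizer (N : Set G) = ⊥ := by
  haveI := Fintype.ofFinite G
  obtain ⟨x, y, hxy, m, hm, hm1, hmy⟩ := S.nsr
  set F := Finset.univ.filter fun w : X => m • w = w with hF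
  have hFaxis : S.IsAxis F := ⟨x, m, hm, hm1, fun w => by simp [F]⟩
  set q := (S.orbit x y).card with hqdef
  have hq : ∀ a b : X, a ≠ b → (S.pts a b).card = q + 1 := fun a b h => by
    rw [S.card_line h, S.card_orbit h hxy]
  have hq2 : 2 ≤ q := by
    by_contra hc
    obtain ⟨z, hz⟩ := S.exists_off hxy
    have hm' := (S.exists_jmax)
    obtain ⟨a, b, c, hab, hc', hj⟩ := hm'
    have h1 := (S.cover_max hab hc' hj).1
    have h2 := S.jmax_lt hab hc' hj
    rw [h1, S.card_orbit hab hxy, ← hqdef] at h2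
    have hjpos : 0 < S.jmax := by rw [← hj]; exact Nat.card_pos
    have := Nat.le_of_mul_le_mul_right h2 hjpos
    omega
  have hxF : x ∈ F := by simp [F, S.fixes x m hm]
  have hyF : y ∈ F := by simp [F, hmy]
  have hF2 : 2 ≤ F.card := Finset.one_lt_card.mpr ⟨x, hxF, y, hyF, hxy⟩
  -- the blocks
  set f : G → Finset X := fun g => F.image (g • ·) with hf
  set Bl := Finset.univ.image f with hBl
  have hax : ∀ C ∈ Bl, S.IsAxis C := fun C hC => by
    obtain ⟨g, -, rfl⟩ := Finset.mem_image.mp hC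
    exact S.axis_smul hFaxis g
  have hFBl : F ∈ Bl := Finset.mem_image.mpr ⟨1, Finset.mem_univ _, by simp [f]⟩
  have hcardC : ∀ C ∈ Bl, C.card = F.card := fun C hC => by
    obtain ⟨g, -, rfl⟩ := Finset.mem_image.mp hC
    exact Finset.card_image_of_injective _ (MulAction.injective g)
  obtain ⟨z, hzF⟩ : ∃ z, z ∉ F := by
    by_contra! h
    exact hm1 (eq_of_smul_eq_smul fun w : X => by rw [one_smul]; simpa [F] using h w)
  have hv : Fintype.card X = 1 + F.card * q := by
    rw [← Finset.card_univ]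
    refine S.cone Finset.univ F q hq (Finset.subset_univ _) (fun _ _ _ _ _ _ _ => Finset.mem_univ _)
      (fun a ha b hb hab w hw => S.axis_closed hFaxis ha hb hab hw)
      (fun a _ b _ hab => S.axis_meets hFaxis hab) (Finset.mem_univ z) hzF
  have hmeet : ∀ C ∈ Bl, C ≠ F → (F ∩ C).card * q + 1 = F.card := fun C hC hne => by
    obtain ⟨a, haF, haC⟩ : ∃ a ∈ F, a ∉ C := by
      by_contra! h
      exact hne (Finset.eq_of_subset_of_card_le (fun a ha => h a ha) (hcardC C hC).le).symm
    rw [add_comm]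
    refine (S.cone F (F ∩ C) q hq Finset.inter_subset_left
      (fun a ha b hb hab w hw => S.axis_closed hFaxis ha hb hab hw)
      (fun a ha b hb hab w hw => ?_) (fun a ha b hb hab => ?_) haF (fun h => haC (Finset.mem_inter.mp h).2)).symm
    · rw [Finset.mem_inter] at ha hb ⊢
      exact ⟨S.axis_closed hFaxis ha.1 hb.1 hab hw, S.axis_closed (hax C hC) ha.2 hb.2 hab hw⟩
    · obtain ⟨w, hw, hwC⟩ := S.axis_meets (hax C hC) hab
      exact ⟨w, hw, Finset.mem_inter.mpr ⟨S.axis_closed hFaxis ha hb hab hw, hwC⟩⟩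
  haveI htr : MulAction.IsPretransitive G X := ⟨fun a b => by
    rcases eq_or_ne a b with rfl | h
    · exact ⟨1, one_smul _ _⟩
    · obtain ⟨g, e, -⟩ := S.two h h.symm
      exact ⟨g, e⟩⟩
  set ρ : X → ℕ := fun w => (Bl.filter fun C => w ∈ C).card with hρ
  have hρeq : ∀ w, ρ w = ρ x := fun w => by
    obtain ⟨g, rfl⟩ := MulAction.exists_smul_eq G x w
    refine (Finset.card_bij (fun C _ => C.image (g • ·)) (fun C hC => ?_) (fun C _ C' _ e => ?_) fun C hC => ?_).symm
    · obtain ⟨hC, hxC⟩ := Finset.mem_filter.mp hC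
      obtain ⟨k, -, rfl⟩ := Finset.mem_image.mp hC
      refine Finset.mem_filter.mpr ⟨Finset.mem_image.mpr ⟨g * k, Finset.mem_univ _, ?_⟩, Finset.mem_image_of_mem _ hxC⟩
      simp [f, Finset.image_image, Function.comp_def, mul_smul]
    · exact Finset.image_injective (MulAction.injective g) e
    · obtain ⟨hC, hxC⟩ := Finset.mem_filter.mp hC
      obtain ⟨k, -, rfl⟩ := Finset.mem_image.mp hC
      refine ⟨f (g⁻¹ * k), Finset.mem_filter.mpr ⟨Finset.mem_image_of_mem _ (Finset.mem_univ _), ?_⟩, ?_⟩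
      · simp only [f, Finset.mem_image] at hxC ⊢
        obtain ⟨a, ha, e⟩ := hxC
        exact ⟨a, ha, by rw [mul_smul, e, inv_smul_smul]⟩
      · simp [f, Finset.image_image, Function.comp_def, mul_smul]
  have hcount : Bl.card * F.card = Fintype.card X * ρ x := by
    have h1 : ∑ w, ρ w = ∑ C ∈ Bl, C.card := by
      simp only [ρ, Finset.card_filter]
      rw [Finset.sum_comm]
      refine Finset.sum_congr rfl fun C _ => ?_
      rw [Finset.sum_boole, Nat.cast_id, Finset.filter_univ_mem]
    rw [Finset.sum_congr rfl fun w _ => hρeq w, Finset.sum_const, Finset.card_univ, smul_eq_mul,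
      Finset.sum_congr rfl hcardC, Finset.sum_const, smul_eq_mul] at h1
    exact h1.symm
  have hpairs : F.card * (ρ x - 1) * q + (Bl.card - 1) = (Bl.card - 1) * F.card := by
    have h1 : ∑ w ∈ F, ((Bl.erase F).filter fun C => w ∈ C).card = ∑ C ∈ Bl.erase F, (F ∩ C).card := by
      simp only [Finset.card_filter, ← Finset.filter_mem_eq_inter]
      exact Finset.sum_comm
    have h2 : ∀ w ∈ F, ((Bl.erase F).filter fun C => w ∈ C).card = ρ x - 1 := fun w hw => by
      rw [Finset.filter_erase, Finset.card_erase_of_mem (Finset.mem_filter.mpr ⟨hFBl, hw⟩)]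
      exact congrArg (· - 1) (hρeq w)
    rw [Finset.sum_congr rfl h2, Finset.sum_const, smul_eq_mul] at h1
    rw [h1, Finset.sum_mul, ← Finset.card_erase_of_mem hFBl, show (Bl.erase F).card * F.card =
      ∑ C ∈ Bl.erase F, F.card by rw [Finset.sum_const, smul_eq_mul]]
    rw [show (Bl.erase F).card = ∑ C ∈ Bl.erase F, 1 by rw [Finset.sum_const, smul_eq_mul, mul_one],
      ← Finset.sum_add_distrib]
    exact Finset.sum_congr rfl fun C hC => hmeet C (Finset.mem_of_mem_erase hC) (Finset.ne_of_mem_erase hC)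
  have hβ : Bl.card = Fintype.card X := by
    have hρpos : 1 ≤ ρ x := Finset.card_pos.mpr ⟨F, Finset.mem_filter.mpr ⟨hFBl, hxF⟩⟩
    have hβpos : 1 ≤ Bl.card := Finset.card_pos.mpr ⟨F, hFBl⟩
    obtain ⟨r, hr⟩ : ∃ r, ρ x = r + 1 := ⟨ρ x - 1, by omega⟩
    obtain ⟨b, hb⟩ : ∃ b, Bl.card = b + 1 := ⟨Bl.card - 1, by omega⟩
    rw [hr, hv, hb] at hcount
    rw [hr, hb, Nat.add_sub_cancel, Nat.add_sub_cancel] at hpairs
    have h1 : ((b : ℤ) + 1) * F.card = (1 + F.card * q) * (r + 1) := by exact_mod_cast hcount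
    have h2 : (F.card : ℤ) * r * q + b = b * F.card := by exact_mod_cast hpairs
    have h3 : ((F.card : ℤ) * q - F.card + 1) * (((b : ℤ) + 1) - (1 + F.card * q)) = 0 := by
      linear_combination (F.card : ℤ) * (q : ℤ) * h1 + (1 + (F.card : ℤ) * q) * h2
    rcases mul_eq_zero.mp h3 with h | h
    · exfalso
      have : (F.card : ℤ) ≤ F.card * q := by exact_mod_cast Nat.le_mul_of_pos_right _ (by omega)
      linarith
    · rw [hv, hb]
      exact_mod_cast sub_eq_zero.mp h
  -- the stabiliser of a block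
  let H : Subgroup G :=
    { carrier := {g | f g = F}
      one_mem' := by simp [f]
      mul_mem' := fun {g h} hg hh => by
        simp only [Set.mem_ofPred_eq, f] at hg hh ⊢
        rw [show (fun x : X => (g * h) • x) = (g • ·) ∘ (h • ·) from funext fun x => mul_smul g h x,
          ← Finset.image_image, hh, hg]
      inv_mem' := fun {g} hg => by
        simp only [Set.mem_ofPred_eq, f] at hg ⊢
        conv_lhs => rw [← hg]
        simp [Finset.image_image, Function.comp_def] }
  have hHmem : ∀ {g : G}, g ∈ H → ∀ w, g • w ∈ F ↔ w ∈ F := fun {g} hg w => by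
    have e : f g = F := hg
    conv_lhs => rw [← e]
    simp only [f, Finset.mem_image, smul_left_cancel_iff, exists_eq_right]
  have hidx : H.index = Nat.card X := by
    have h1 : Bl.card * Nat.card H = Nat.card G := by
      simp only [Nat.card_eq_fintype_card, Fintype.card_subtype]
      rw [← Finset.card_univ]
      conv_rhs => rw [Finset.card_eq_sum_card_fiberwise (f := f) (t := Bl)
        (fun g _ => Finset.mem_image_of_mem _ (Finset.mem_univ g))]
      rw [← smul_eq_mul, ← Finset.sum_const]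
      refine Finset.sum_congr rfl fun C hC => ?_
      obtain ⟨k, -, rfl⟩ := Finset.mem_image.mp hC
      refine Finset.card_equiv (Equiv.mulLeft k) fun g => ?_
      simp only [Finset.mem_filter, Finset.mem_univ, true_and, Equiv.coe_mulLeft]
      change f g = F ↔ f (k * g) = f k
      rw [show f (k * g) = (f g).image (k • ·) by simp [f, Finset.image_image, Function.comp_def, mul_smul]]
      exact (Finset.image_injective (MulAction.injective k)).eq_iff.symm
    rw [← H.card_mul_index, mul_comm] at h1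
    rw [Nat.card_eq_fintype_card (α := X), ← hβ]
    exact (Nat.eq_of_mul_eq_mul_left Nat.card_pos h1).symm
  have hcompl : 2 ≤ Fᶜ.card := by
    rw [Finset.card_compl, hv]
    have := Nat.mul_le_mul_left F.card hq2
    omega
  have hnt : ¬ MulAction.IsPretransitive H X := fun h => by
    obtain ⟨g, e⟩ := h.exists_smul_eq x z
    exact hzF (by rw [← e]; exact (hHmem g.2 x).mpr hxF)
  have hfix : ∀ a : X, ∃ h : H, h • a ≠ a := by
    intro a
    by_contra! hc
    have hle : H ≤ MulAction.stabilizer G a := fun g hg => hc ⟨g, hg⟩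
    have hst : MulAction.stabilizer G a ≤ H := by
      have h1 := Subgroup.relIndex_mul_index hle
      rw [MulAction.index_stabilizer_of_transitive G a, hidx] at h1
      refine Subgroup.relIndex_eq_one.mp ?_
      haveI : Nonempty X := ⟨a⟩
      exact Nat.eq_of_mul_eq_mul_right Nat.card_pos (by rw [h1, one_mul])
    obtain ⟨w, hw, hwa⟩ : ∃ w ∈ F, w ≠ a := by
      obtain ⟨w, hw⟩ : (F.erase a).Nonempty :=
        Finset.card_pos.mp (by have := Finset.pred_card_le_card_erase (s := F) (a := a); omega)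
      exact ⟨w, Finset.mem_of_mem_erase hw, Finset.ne_of_mem_erase hw⟩
    obtain ⟨w', hw', hwa'⟩ : ∃ w' ∈ Fᶜ, w' ≠ a := by
      obtain ⟨w, hw⟩ : (Fᶜ.erase a).Nonempty :=
        Finset.card_pos.mp (by have := Finset.pred_card_le_card_erase (s := Fᶜ) (a := a); omega)
      exact ⟨w, Finset.mem_of_mem_erase hw, Finset.ne_of_mem_erase hw⟩
    obtain ⟨g, e1, e2⟩ := S.two (Ne.symm hwa) (Ne.symm hwa')
    have hgH : g ∈ H := hst e1
    exact (Finset.mem_compl.mp hw') (e2 ▸ (hHmem hgH w).mpr hw)
  have hmH : m ∈ H := by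
    change f m = F
    ext w
    simp only [f, F, Finset.mem_image, Finset.mem_filter, Finset.mem_univ, true_and]
    constructor
    · rintro ⟨a, ha, rfl⟩
      rw [ha, ha]
    · intro hw
      exact ⟨w, hw, hw⟩
  refine AxD.recognition H x (MulAction.is_two_pretransitive_iff.mpr fun h h' => S.two h h') hidx hnt hfix
    ⟨⟨m, hmH⟩, fun e => hm1 (congrArg Subtype.val e), fun b hb => ?_⟩
  obtain ⟨k, rfl⟩ := MulAction.mem_orbit_iff.mp hb
  have : (k : G) • x ∈ F := (hHmem k.2 x).mpr hxF
  exact (Finset.mem_filter.mp this).2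

end Fam

end

end CfsgLib.ElSp
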